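import Cfsg.Agent.H19.RelDegree
import Cfsg.Agent.H13.Kernel
import Cfsg.Agent.H13.Linear
import Cfsg.Agent.H16.Degree
import Cfsg.Agent.H4.ThreeDegrees.Tools
import Cfsg.Agent.H21.DegreesOneP

/-!
Distances in the common-divisor graph on relative character degrees.
-/

set_option autoImplicit false
set_option linter.style.haveILetI false
set_option linter.unusedSectionVars false

open Cfsg H19 H19.RelDeg

namespace H4.RelGraph

universe u

variable {G : Type u} [Group G] [Finite G] {N : Subgroup G}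

/-- At distance at most `k` in the relative degree graph. -/
def Near (N : Subgroup G) (k a b : ℕ) : Prop :=
  ∃ (ha : a ∈ relCharDegrees N) (hb : b ∈ relCharDegrees N)
    (p : (commonDivisorGraph.induce (relCharDegrees N)).Walk ⟨a, ha⟩ ⟨b, hb⟩), p.length ≤ k

theorem Near.mem_left {k a b : ℕ} (h : Near N k a b) : a ∈ relCharDegrees N := h.1

theorem Near.mem_right {k a b : ℕ} (h : Near N k a b) : b ∈ relCharDegrees N := h.2.1

theorem Near.trans {k l a b c : ℕ} (h : Near N k a b) (h' : Near N l b c) :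
    Near N (k + l) a c := by
  obtain ⟨ha, hb, p, hp⟩ := h
  obtain ⟨_, hc, q, hq⟩ := h'
  exact ⟨ha, hc, p.append q, by rw [SimpleGraph.Walk.length_append]; omega⟩

theorem Near.symm {k a b : ℕ} (h : Near N k a b) : Near N k b a := by
  obtain ⟨ha, hb, p, hp⟩ := h
  exact ⟨hb, ha, p.reverse, by rwa [SimpleGraph.Walk.length_reverse]⟩

theorem Near.mono {k l a b : ℕ} (h : Near N k a b) (hkl : k ≤ l) : Near N l a b := by
  obtain ⟨ha, hb, p, hp⟩ := h
  exact ⟨ha, hb, p, hp.trans hkl⟩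

theorem Near.reach {k a b : ℕ} (h : Near N k a b) : Reach N a b := by
  obtain ⟨ha, hb, p, -⟩ := h
  exact ⟨ha, hb, p.reachable⟩

theorem reach_symm {a b : ℕ} (h : Reach N a b) : Reach N b a := by
  obtain ⟨ha, hb, h⟩ := h
  exact ⟨hb, ha, h.symm⟩

theorem reach_trans {a b c : ℕ} (h : Reach N a b) (h' : Reach N b c) : Reach N a c := by
  obtain ⟨ha, hb, h⟩ := h
  obtain ⟨_, hc, h'⟩ := h'
  exact ⟨ha, hc, h.trans h'⟩

theorem near_refl {k a : ℕ} (ha : a ∈ relCharDegrees N) : Near N k a a :=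
  ⟨ha, ha, .nil, Nat.zero_le _⟩

theorem near_of_gcd {a b : ℕ} (ha : a ∈ relCharDegrees N) (hb : b ∈ relCharDegrees N)
    (h : 1 < Nat.gcd a b) : Near N 1 a b := by
  by_cases hab : a = b
  · subst hab; exact near_refl ha
  · exact ⟨ha, hb, SimpleGraph.Adj.toWalk (show commonDivisorGraph.Adj a b from ⟨hab, h⟩),
      le_of_eq rfl⟩

theorem rel_mono {M : Subgroup G} (hMN : M ≤ N) {d : ℕ} (hd : d ∈ relCharDegrees M) :
    d ∈ relCharDegrees N := by
  obtain ⟨χ, ⟨x, hx, hne⟩, rfl⟩ := hd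
  exact ⟨χ, ⟨x, hMN hx, hne⟩, rfl⟩

theorem Near.of_le {M : Subgroup G} (hMN : M ≤ N) {k a b : ℕ} (h : Near M k a b) :
    Near N k a b := by
  obtain ⟨ha, hb, p, hp⟩ := h
  let f : commonDivisorGraph.induce (relCharDegrees M) →g
      commonDivisorGraph.induce (relCharDegrees N) :=
    ⟨fun x => ⟨x, rel_mono hMN x.2⟩, fun {_ _} h => h⟩
  exact ⟨rel_mono hMN ha, rel_mono hMN hb, p.map f, by rwa [SimpleGraph.Walk.length_map]⟩

theorem reach_of_le {M : Subgroup G} (hMN : M ≤ N) {a b : ℕ} (h : Reach M a b) :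
    Reach N a b := by
  obtain ⟨ha, hb, ⟨p⟩⟩ := h
  exact (Near.of_le hMN (⟨ha, hb, p, le_rfl⟩ : Near M p.length a b)).reach

theorem near_of_dvd [N.Normal] {a b q : ℕ} (ha : a ∈ relCharDegrees N)
    (hb : b ∈ relCharDegrees N) (hq : 1 < q) (h1 : q ∣ a) (h2 : q ∣ b) : Near N 1 a b :=
  haveI := Fintype.ofFinite G
  haveI := Fintype.ofFinite N
  near_of_gcd ha hb (lt_of_lt_of_le hq (Nat.le_of_dvd
    (Nat.gcd_pos_of_pos_left _ (Nat.pos_of_ne_zero (ne_zero_of_mem ha))) (Nat.dvd_gcd h1 h2)))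

variable [hN : N.Normal]

/-- The degree lies over a nonlinear constituent with trivial determinant. -/
def Twistable (N : Subgroup G) [N.Normal] (d : ℕ) : Prop :=
  d ∈ relCharDegrees ⁅N, N⁆ ∧
    ∃ θ : IrrCharacter N, 1 < H12.degree (θ : N → ℂ) ∧ H12.degree (θ : N → ℂ) ∣ d ∧ detA θ = 1

/-- The degree is linked to a nontrivial linear character. -/
def Linked (N : Subgroup G) [N.Normal] (d : ℕ) : Prop :=
  ∃ ν : Dual N, ν ≠ 1 ∧ ∀ k, Share N (ν ^ k) d

theorem degree_dvd_of_constituent [Fintype G] [Fintype N] (χ : IrrCharacter G)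
    (θ : IrrCharacter N) (h : classInner (fun n : N => (χ : G → ℂ) n) (θ : N → ℂ) ≠ 0) :
    H12.degree (θ : N → ℂ) ∣ charDegree (χ : G → ℂ) := by
  obtain ⟨e, he⟩ := H12.IsCharacter.classInner_nat
    (H12.IsCharacter.res (H12.isCharacter_irr χ) N) (H12.isCharacter_irr θ)
  have hcl := H13.clifford_degree N χ.2 θ.2 h
  rw [he, H12.irr_apply_one θ, show (χ : G → ℂ) 1 = ((charDegree (χ : G → ℂ) : ℕ) : ℂ) from
    H12.irr_apply_one χ] at hcl
  exact ⟨e * (H13.inertia N (θ : N → ℂ)).index, by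
    rw [mul_comm (H12.degree (θ : N → ℂ))]; exact_mod_cast hcl⟩

/-- A nonlinear constituent puts the degree over the derived subgroup. -/
theorem mem_rel_commutator [Fintype G] [Fintype N] (χ : IrrCharacter G) (θ : IrrCharacter N)
    (h : classInner (fun n : N => (χ : G → ℂ) n) (θ : N → ℂ) ≠ 0)
    (hf : 1 < H12.degree (θ : N → ℂ)) :
    charDegree (χ : G → ℂ) ∈ relCharDegrees ⁅N, N⁆ := by
  refine ⟨χ, ?_, rfl⟩
  by_contra hcon
  push Not at hcon
  have h1 : H12.degree (θ : N → ℂ) = 1 := by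
    refine H4.ThreeDeg.degree_one_of_kills θ fun g hg => ?_
    refine H16.kernel_constituent (H12.IsCharacter.res (H12.isCharacter_irr χ) N) θ.2 h ?_
    have hg' : (g : G) ∈ ⁅N, N⁆ := by
      rw [← Subgroup.map_subtype_commutator]
      exact Subgroup.mem_map_of_mem _ hg
    simpa using hcon g hg'
  omega

/-- Every relative degree is linked to a linear character or twistable. -/
theorem linked_or_twistable (hNG : N ≤ commutator G) {d : ℕ} (hd : d ∈ relCharDegrees N) :
    Linked N d ∨ Twistable N d := by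
  classical
  haveI := Fintype.ofFinite G
  haveI := Fintype.ofFinite N
  obtain ⟨χ, ⟨x, hx, hxne⟩, rfl⟩ := hd
  obtain ⟨θ, hθ, hθne⟩ : ∃ θ : IrrCharacter N,
      classInner (fun n : N => (χ : G → ℂ) n) (θ : N → ℂ) ≠ 0 ∧ θ ≠ H12.oneIrr N := by
    by_contra hcon
    push Not at hcon
    have hz : ∀ n : N, (χ : G → ℂ) n =
        classInner (fun n : N => (χ : G → ℂ) n) (H12.oneIrr N : N → ℂ) := fun n => by
      rw [H12.classFunction_apply_eq_sum (H12.IsCharacter.isClassFunction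
        (H12.IsCharacter.res (H12.isCharacter_irr χ) N)) n, Finset.sum_eq_single (H12.oneIrr N)]
      · rw [H12.oneIrr_apply, mul_one]
      · intro ψ _ hψ
        rw [Classical.byContradiction fun h => hψ (hcon ψ h), zero_mul]
      · simp
    exact hxne ((hz ⟨x, hx⟩).trans (hz 1).symm)
  by_cases hdet : detA θ = 1
  · refine Or.inr ?_
    have hf : 1 < H12.degree (θ : N → ℂ) := by
      by_contra hf
      have hf1 : (θ : N → ℂ) 1 = 1 := by
        rw [H12.irr_apply_one]
        have := H12.irr_degree_pos θ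
        exact_mod_cast (by omega : H12.degree (θ : N → ℂ) = 1)
      obtain ⟨φ, hφ⟩ := H12.exists_monoidHom_of_apply_one_eq_one (H12.isCharacter_irr θ) hf1
      have hθl : θ = H12.linIrr φ := Subtype.ext hφ.symm
      rw [hθl, detA_linIrr] at hdet
      apply hθne
      rw [hθl]
      apply Subtype.ext
      funext n
      rw [H12.oneIrr_apply]
      exact congrArg Units.val (congrArg (fun ν : Dual N => ν n) hdet)
    exact ⟨mem_rel_commutator χ θ hθ hf, θ, hf, degree_dvd_of_constituent χ θ hθ, hdet⟩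
  · exact Or.inl ⟨detA θ, hdet, share_of_constituent hNG χ θ hθ⟩

/-- A twistable degree is adjacent to one linked to any linear character of order prime to the
degree of the constituent. -/
theorem exists_twist_degree (hNG : N ≤ commutator G) {R : ℕ} (θ : IrrCharacter N)
    (hf : 1 < H12.degree (θ : N → ℂ)) (hdet : detA θ = 1)
    (hR : (H12.degree (θ : N → ℂ)).Coprime R) {ν : Dual N} (hν : ν ^ R = 1) :
    ∃ x ∈ relCharDegrees N, x ∈ relCharDegrees ⁅N, N⁆ ∧ (∀ k, Share N (ν ^ k) x) ∧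
      H12.degree (θ : N → ℂ) ∣ x := by
  classical
  haveI := Fintype.ofFinite G
  haveI := Fintype.ofFinite N
  obtain ⟨u, hu⟩ := exists_pow_eq_self_of_coprime (x := ν) (n := H12.degree (θ : N → ℂ))
    (hR.coprime_dvd_right (orderOf_dvd_of_pow_eq_one hν))
  obtain ⟨θ', hθ'1, hθ'det⟩ := exists_twist θ (ν ^ u)
  have hdeg : H12.degree (θ' : N → ℂ) = H12.degree (θ : N → ℂ) := by
    unfold H12.degree; rw [hθ'1]
  have hdet' : detA θ' = ν := by
    rw [hθ'det, hdet, mul_one, ← pow_mul, mul_comm, pow_mul, hu]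
  obtain ⟨χ, hne, hmem, hdvd⟩ := H19.RelDeg.exists_over θ' (by
    by_contra h
    push Not at h
    have h1 := h 1
    rw [hθ'1, H12.irr_apply_one] at h1
    have : H12.degree (θ : N → ℂ) = 1 := by exact_mod_cast h1
    omega)
  refine ⟨_, hmem, mem_rel_commutator χ θ' hne (hdeg ▸ hf), ?_, hdeg ▸ hdvd⟩
  exact hdet' ▸ share_of_constituent hNG χ θ' hne

theorem exists_linked (hNG : N ≤ commutator G) {ν : Dual N} (hν : ν ≠ 1) :
    ∃ x ∈ relCharDegrees N, ∀ k, Share N (ν ^ k) x := by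
  classical
  haveI := Fintype.ofFinite G
  haveI := Fintype.ofFinite N
  exact exists_linear_over hNG ν hν

theorem pow_index (ν : Dual N) : ν ^ ⁅N, N⁆.relIndex N = 1 := by
  classical
  haveI := Fintype.ofFinite G
  haveI := Fintype.ofFinite N
  exact pow_index_eq_one ν

theorem index_ne_one [Group.IsSolvable N] (h : N ≠ ⊥) : ⁅N, N⁆.relIndex N ≠ 1 := by
  haveI : Nontrivial N := (Subgroup.nontrivial_iff_ne_bot N).mpr h
  intro h1
  rw [Subgroup.relIndex_eq_one, ← Subgroup.map_subtype_commutator] at h1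
  have h2 := Group.IsSolvable.commutator_lt_top_of_nontrivial (G := N)
  refine h2.ne (eq_top_iff.mpr fun x _ => ?_)
  obtain ⟨y, hy, hyx⟩ := h1 x.2
  rwa [← Subtype.ext hyx]

theorem exists_prime_char {r : ℕ} (hr : r.Prime) (hrm : r ∣ ⁅N, N⁆.relIndex N) :
    ∃ ν : Dual N, ν ^ r = 1 ∧ ν ≠ 1 := by
  classical
  haveI := Fintype.ofFinite G
  haveI := Fintype.ofFinite N
  have hm0 : ⁅N, N⁆.relIndex N ≠ 0 := Subgroup.index_ne_zero_of_finite
  obtain ⟨k, t, ht, hkt⟩ := Nat.exists_eq_pow_mul_and_not_dvd hm0 r hr.ne_one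
  have hk : k ≠ 0 := fun h => ht (by rwa [hkt, h, pow_zero, one_mul] at hrm)
  obtain ⟨ν, hν, hν1⟩ := exists_rChar hr hkt hk
  obtain ⟨j, -, hj⟩ := (Nat.dvd_prime_pow hr).1 (orderOf_dvd_of_pow_eq_one hν)
  have hj0 : j ≠ 0 := fun h => hν1 (orderOf_eq_one_iff.1 (by rw [hj, h, pow_zero]))
  refine ⟨ν ^ r ^ (j - 1), ?_, fun h => ?_⟩
  · rw [← pow_mul, ← pow_succ, Nat.sub_add_cancel (Nat.pos_of_ne_zero hj0), ← hj,
      pow_orderOf_eq_one]
  · have := orderOf_dvd_of_pow_eq_one h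
    rw [hj, Nat.pow_dvd_pow_iff_le_right hr.one_lt] at this
    omega

/-- A linked degree is linked to a character of prime order. -/
theorem linked_prime {d : ℕ} (h : Linked N d) :
    ∃ r : ℕ, r.Prime ∧ r ∣ ⁅N, N⁆.relIndex N ∧ ∃ ν : Dual N, ν ^ r = 1 ∧ ν ≠ 1 ∧
      ∀ j, Share N (ν ^ j) d := by
  classical
  haveI := Fintype.ofFinite G
  haveI := Fintype.ofFinite N
  obtain ⟨ν, hν, hsh⟩ := h
  have ho : orderOf ν ≠ 1 := fun h => hν (orderOf_eq_one_iff.1 h)
  obtain ⟨r, hr, hrd⟩ := Nat.exists_prime_and_dvd ho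
  obtain ⟨k, hk⟩ := hrd
  refine ⟨r, hr, (Dvd.intro k hk.symm).trans (orderOf_dvd_of_pow_eq_one (pow_index ν)), ν ^ k,
    by rw [← pow_mul, mul_comm, ← hk, pow_orderOf_eq_one], fun h1 => ?_,
    fun j => by rw [← pow_mul]; exact hsh (k * j)⟩
  have := orderOf_dvd_of_pow_eq_one h1
  have hk0 : 0 < k := Nat.pos_of_ne_zero fun h0 => by
    haveI := finite_dual (C := N)
    rw [h0, mul_zero] at hk
    exact (orderOf_pos ν).ne' hk
  rw [hk] at this
  have := Nat.le_of_dvd hk0 this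
  nlinarith [hr.two_le]

/-- Two degrees prime to the index, linked to linear characters, are at distance at most two. -/
theorem near_two_of_linked (hNG : N ≤ commutator G) {d e : ℕ} (hd : d ∈ relCharDegrees N)
    (he : e ∈ relCharDegrees N) (hdm : d.Coprime (⁅N, N⁆.relIndex N))
    (hem : e.Coprime (⁅N, N⁆.relIndex N)) (hdl : Linked N d) (hel : Linked N e) :
    Near N 2 d e := by
  classical
  haveI := Fintype.ofFinite G
  haveI := Fintype.ofFinite N
  obtain ⟨ν, hν, hνd'⟩ := hdl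
  obtain ⟨μ, hμ, hμe'⟩ := hel
  have hνd : Share N ν d := by simpa using hνd' 1
  have hμe : Share N μ e := by simpa using hμe' 1
  have hne : ∀ {c : ℕ} {x : Dual N}, c.Coprime (⁅N, N⁆.relIndex N) → x ≠ 1 → Share N x c →
      (stab N x).index ≠ 1 := fun {c x} hc hx hxc hone => hx <| by
    have : x ^ Nat.gcd c (⁅N, N⁆.relIndex N) = 1 :=
      pow_gcd_eq_one.mpr ⟨hxc.2 hone, pow_index x⟩
    rwa [hc, pow_one] at this
  have hi := hne hdm hν hνd
  have hj := hne hem hμ hμe
  by_cases hij : (stab N ν).index.Coprime (stab N μ).index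
  swap
  · obtain ⟨q, hq, hq1, hq2⟩ := Nat.Prime.not_coprime_iff_dvd.mp hij
    exact (near_of_dvd hd he hq.one_lt (hq1.trans hνd.1) (hq2.trans hμe.1)).mono one_le_two
  have hκj : ¬ (stab N (ν * μ)).index.Coprime (stab N μ).index := fun h =>
    not_coprime_orbits (pow_index ν) (pow_index μ) hij h hj (hdm.coprime_dvd_left hνd.1)
  have hκi : ¬ (stab N (ν * μ)).index.Coprime (stab N ν).index := fun h =>
    not_coprime_orbits (pow_index μ) (pow_index ν) hij.symm (by rw [mul_comm]; exact h) hi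
      (hem.coprime_dvd_left hμe.1)
  obtain ⟨x, hx, hxs⟩ := exists_linked hNG (ν := ν * μ) (fun h1 => by
    have : stab N (ν * μ) = ⊤ := eq_top_iff.mpr fun g _ => by rw [mem_stab, h1, map_one]
    rw [this, Subgroup.index_top] at hκj
    exact hκj (Nat.coprime_one_left _))
  have hx1 := hxs 1
  rw [pow_one] at hx1
  obtain ⟨q, hq, hq1, hq2⟩ := Nat.Prime.not_coprime_iff_dvd.mp hκi
  obtain ⟨q', hq', hq1', hq2'⟩ := Nat.Prime.not_coprime_iff_dvd.mp hκj
  exact (near_of_dvd hd hx hq.one_lt (hq2.trans hνd.1) (hq1.trans hx1.1)).trans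
    (near_of_dvd hx he hq'.one_lt (hq1'.trans hx1.1) (hq2'.trans hμe.1))

end H4.RelGraph
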