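import Cfsg.Agent.H4.RelGraph.Basic

/-!
Diameter bounds for the common-divisor graph on relative character degrees of a solvable normal
subgroup inside the derived subgroup.
-/

set_option autoImplicit false
set_option linter.style.haveILetI false
set_option linter.unusedSectionVars false

open Cfsg H19 H19.RelDeg
open scoped commutatorElement

namespace H4.RelGraph

universe u

variable {G : Type u} [Group G] [Finite G] {N : Subgroup G} [hN : N.Normal]

theorem exists_noncoprime [Group.IsSolvable N] (hne : ⁅N, N⁆ ≠ ⊥) :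
    ∃ b ∈ relCharDegrees ⁅N, N⁆, ¬ b.Coprime (⁅N, N⁆.relIndex N) := by
  classical
  haveI := Fintype.ofFinite G
  haveI := Fintype.ofFinite N
  set S : Subgroup N := commutator N with hS
  set S₂ : Subgroup N := ⁅S, S⁆ with hS₂
  have hSN : S.map N.subtype = ⁅N, N⁆ := Subgroup.map_subtype_commutator N
  have hSne : S ≠ ⊥ := fun h => hne (by rw [← hSN, h, Subgroup.map_bot])
  have hSle : S₂ ≤ S := Subgroup.commutator_le_self S
  have hS2 : S₂ < S := by
    haveI : Nontrivial S := (Subgroup.nontrivial_iff_ne_bot S).mpr hSne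
    have h := Group.IsSolvable.commutator_lt_top_of_nontrivial (G := S)
    refine lt_of_le_of_ne hSle fun he => h.ne (Subgroup.map_injective S.subtype_injective ?_)
    rw [Subgroup.map_subtype_commutator, ← MonoidHom.range_eq_map, Subgroup.range_subtype]
    exact he
  let π := QuotientGroup.mk' S₂
  have hker : π.ker = S₂ := QuotientGroup.ker_mk' S₂
  have hmap : commutator (N ⧸ S₂) = S.map π := by
    have h := Subgroup.map_commutator (⊤ : Subgroup N) ⊤ π
    rw [← MonoidHom.range_eq_map, MonoidHom.range_eq_top.mpr (QuotientGroup.mk'_surjective S₂)] at h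
    exact (commutator_def (N ⧸ S₂)).trans h.symm
  have hab : ∀ a ∈ commutator (N ⧸ S₂), ∀ b ∈ commutator (N ⧸ S₂), a * b = b * a := by
    rw [hmap]
    rintro _ ⟨a, ha, rfl⟩ _ ⟨b, hb, rfl⟩
    have hc : ⁅a, b⁆ ∈ π.ker := hker.symm ▸ (Subgroup.commutator_mem_commutator ha hb : ⁅a, b⁆ ∈ S₂)
    rw [MonoidHom.mem_ker, map_commutatorElement, commutatorElement_eq_one_iff_mul_comm] at hc
    exact hc
  obtain ⟨ψ, hψ⟩ : ∃ ψ : IrrCharacter (N ⧸ S₂), H12.degree (ψ : N ⧸ S₂ → ℂ) ≠ 1 := by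
    by_contra h
    push Not at h
    obtain ⟨x, hx, hx2⟩ := SetLike.exists_of_lt hS2
    have h1 : π x = 1 := H4.ThreeDeg.eq_one_of_kills fun χ =>
      H4.ThreeDeg.linear_kills χ (h χ) (hmap ▸ Subgroup.mem_map_of_mem π hx)
    exact hx2 (hker ▸ MonoidHom.mem_ker.mpr h1)
  haveI := Fintype.ofFinite (N ⧸ S₂)
  have hdvd : H12.degree (ψ : N ⧸ S₂ → ℂ) ∣ ⁅N, N⁆.relIndex N := by
    have h := H21.charDegree_dvd_index_abelian (commutator (N ⧸ S₂)) hab ψ
    rw [hmap, Subgroup.index_map_eq S (QuotientGroup.mk'_surjective S₂) (hker.le.trans hSle)] at h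
    have e : ⁅N, N⁆.subgroupOf N = S := by
      rw [← hSN]
      exact Subgroup.comap_map_eq_self_of_injective N.subtype_injective S
    rw [Subgroup.relIndex, e]
    exact h
  set θ := H12.inflate S₂ ψ with hθdef
  have hθd : H12.degree (θ : N → ℂ) = H12.degree (ψ : N ⧸ S₂ → ℂ) := by
    unfold H12.degree
    rw [hθdef, H12.inflate_apply]
    rfl
  have hf : 1 < H12.degree (θ : N → ℂ) := by
    have := H12.irr_degree_pos ψ
    omega
  obtain ⟨χ, hχ, -, hd⟩ := H19.RelDeg.exists_over θ (by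
    by_contra h
    push Not at h
    have h1 := h 1
    rw [H12.irr_apply_one] at h1
    have : H12.degree (θ : N → ℂ) = 1 := by exact_mod_cast h1
    omega)
  exact ⟨_, mem_rel_commutator χ θ hχ hf,
    Nat.not_coprime_of_dvd_of_dvd hf hd (hθd ▸ hdvd)⟩

theorem near_share {a b : ℕ} (ha : a ∈ relCharDegrees N) (hb : b ∈ relCharDegrees N) {ν : Dual N}
    (hν : ν ≠ 1) (hνa : ∀ k, Share N (ν ^ k) a) (hνb : ∀ k, Share N (ν ^ k) b) :
    1 < Nat.gcd a b := by
  classical
  haveI := Fintype.ofFinite G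
  haveI := Fintype.ofFinite N
  exact share_gcd hν (ne_zero_of_mem ha) (by simpa using hνa 1) (by simpa using hνb 1)

theorem one_lt_gcd_of_dvd {a b q : ℕ} (ha : a ∈ relCharDegrees N) (hq : 1 < q) (h1 : q ∣ a)
    (h2 : q ∣ b) : 1 < Nat.gcd a b := by
  classical
  haveI := Fintype.ofFinite G
  haveI := Fintype.ofFinite N
  exact lt_of_lt_of_le hq (Nat.le_of_dvd (Nat.gcd_pos_of_pos_left _
    (Nat.pos_of_ne_zero (ne_zero_of_mem ha))) (Nat.dvd_gcd h1 h2))

/-- Degrees linked to characters of distinct prime orders are at distance at most two. -/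
theorem near_two_of_primes (hNG : N ≤ commutator G) {r s x y : ℕ} (hr : r.Prime) (hs : s.Prime)
    (hrs : r ≠ s) {ν μ : Dual N} (hν : ν ^ r = 1) (hν1 : ν ≠ 1) (hμ : μ ^ s = 1) (hμ1 : μ ≠ 1)
    (hx : x ∈ relCharDegrees N) (hy : y ∈ relCharDegrees N) (hxs : ∀ k, Share N (ν ^ k) x)
    (hys : ∀ k, Share N (μ ^ k) y) : Near N 2 x y := by
  have hc : r.Coprime s := (Nat.coprime_primes hr hs).mpr hrs
  obtain ⟨u, hu⟩ := exists_pow_eq_self_of_coprime (x := ν) (n := s)
    (hc.symm.coprime_dvd_right (orderOf_dvd_of_pow_eq_one hν))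
  obtain ⟨u', hu'⟩ := exists_pow_eq_self_of_coprime (x := μ) (n := r)
    (hc.coprime_dvd_right (orderOf_dvd_of_pow_eq_one hμ))
  have e1 : (ν * μ) ^ (s * u) = ν := by rw [pow_mul, mul_pow, hμ, mul_one, hu]
  have e2 : (ν * μ) ^ (r * u') = μ := by rw [pow_mul, mul_pow, hν, one_mul, hu']
  obtain ⟨z, hz, hzs⟩ := exists_linked hNG (ν := ν * μ) (fun h => hν1 (by rw [← e1, h, one_pow]))
  have hzν : ∀ k, Share N (ν ^ k) z := fun k => by
    have h := hzs (s * u * k)
    rwa [pow_mul, e1] at h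
  have hzμ : ∀ k, Share N (μ ^ k) z := fun k => by
    have h := hzs (r * u' * k)
    rwa [pow_mul, e2] at h
  exact (near_of_gcd hx hz (near_share hx hz hν1 hxs hzν)).trans
    (near_of_gcd hz hy (near_share hz hy hμ1 hzμ hys))

/-- With two primes in the index, linked degrees are at distance at most three. -/
theorem near_three_of_primes (hNG : N ≤ commutator G) {r s x y : ℕ} (hr : r.Prime) (hs : s.Prime)
    (hrs : r ≠ s) (hrm : r ∣ ⁅N, N⁆.relIndex N) (hsm : s ∣ ⁅N, N⁆.relIndex N)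
    (hx : x ∈ relCharDegrees N) (hy : y ∈ relCharDegrees N) (hxl : Linked N x)
    (hyl : Linked N y) : Near N 3 x y := by
  obtain ⟨t, ht, -, ν, hν, hν1, hxs⟩ := linked_prime hxl
  obtain ⟨t', ht', -, μ, hμ, hμ1, hys⟩ := linked_prime hyl
  by_cases htt : t = t'
  swap
  · exact (near_two_of_primes hNG ht ht' htt hν hν1 hμ hμ1 hx hy hxs hys).mono (by omega)
  subst htt
  obtain ⟨w, hw, hwm, hwt⟩ : ∃ w : ℕ, w.Prime ∧ w ∣ ⁅N, N⁆.relIndex N ∧ t ≠ w := by
    by_cases h : t = r
    · exact ⟨s, hs, hsm, h ▸ hrs⟩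
    · exact ⟨r, hr, hrm, h⟩
  obtain ⟨κ, hκ, hκ1⟩ := exists_prime_char hw hwm
  have hc : t.Coprime w := (Nat.coprime_primes ht hw).mpr hwt
  have key : ∀ {l : Dual N}, l ^ t = 1 → l ≠ 1 → ∀ z ∈ relCharDegrees N,
      (∀ k, Share N (l ^ k) z) → ∃ z' ∈ relCharDegrees N, Near N 1 z z' ∧
        ∀ k, Share N (κ ^ k) z' := by
    intro l hl hl1 z hz hzs
    obtain ⟨u, hu⟩ := exists_pow_eq_self_of_coprime (x := l) (n := w)
      (hc.symm.coprime_dvd_right (orderOf_dvd_of_pow_eq_one hl))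
    obtain ⟨u', hu'⟩ := exists_pow_eq_self_of_coprime (x := κ) (n := t)
      (hc.coprime_dvd_right (orderOf_dvd_of_pow_eq_one hκ))
    have e1 : (l * κ) ^ (w * u) = l := by rw [pow_mul, mul_pow, hκ, mul_one, hu]
    have e2 : (l * κ) ^ (t * u') = κ := by rw [pow_mul, mul_pow, hl, one_mul, hu']
    obtain ⟨z', hz', hz's⟩ := exists_linked hNG (ν := l * κ)
      (fun h => hl1 (by rw [← e1, h, one_pow]))
    refine ⟨z', hz', near_of_gcd hz hz' (near_share hz hz' hl1 hzs fun k => ?_), fun k => ?_⟩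
    · have h := hz's (w * u * k)
      rwa [pow_mul, e1] at h
    · have h := hz's (t * u' * k)
      rwa [pow_mul, e2] at h
  obtain ⟨a, ha, hxa, has⟩ := key hν hν1 x hx hxs
  obtain ⟨b, hb, hyb, hbs⟩ := key hμ hμ1 y hy hys
  exact (hxa.trans (near_of_gcd ha hb (near_share ha hb hκ1 has hbs))).trans hyb.symm

/-- Degrees avoiding two different primes of the index are at distance at most four. -/
theorem near_four_of_missing (hNG : N ≤ commutator G) {r s x y : ℕ} (hr : r.Prime) (hs : s.Prime)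
    (hrs : r ≠ s) (hrm : r ∣ ⁅N, N⁆.relIndex N) (hsm : s ∣ ⁅N, N⁆.relIndex N)
    (hx : x ∈ relCharDegrees N) (hy : y ∈ relCharDegrees N) (hrx : ¬ r ∣ x) (hsy : ¬ s ∣ y) :
    Near N 4 x y := by
  have key : ∀ {t z : ℕ}, t.Prime → t ∣ ⁅N, N⁆.relIndex N → ¬ t ∣ z → Twistable N z →
      z ∈ relCharDegrees N → ∃ z' ∈ relCharDegrees N, Near N 1 z z' ∧
        ∃ ν : Dual N, ν ^ t = 1 ∧ ν ≠ 1 ∧ ∀ k, Share N (ν ^ k) z' := by
    intro t z ht htm htz hzT hz
    obtain ⟨-, θ, hf, hfz, hdet⟩ := hzT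
    obtain ⟨ν, hν, hν1⟩ := exists_prime_char ht htm
    obtain ⟨z', hz', -, hz's, hfz'⟩ := exists_twist_degree hNG θ hf hdet
      ((ht.coprime_iff_not_dvd.mpr fun h => htz (h.trans hfz)).symm) hν
    exact ⟨z', hz', near_of_gcd hz hz' (one_lt_gcd_of_dvd hz hf hfz hfz'), ν, hν, hν1, hz's⟩
  rcases linked_or_twistable hNG hx with hxl | hxT <;>
    rcases linked_or_twistable hNG hy with hyl | hyT
  · exact (near_three_of_primes hNG hr hs hrs hrm hsm hx hy hxl hyl).mono (by omega)
  · obtain ⟨y', hy', hyy', ν, -, hν1, hy's⟩ := key hs hsm hsy hyT hy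
    exact ((near_three_of_primes hNG hr hs hrs hrm hsm hx hy' hxl ⟨ν, hν1, hy's⟩).trans hyy'.symm)
  · obtain ⟨x', hx', hxx', ν, -, hν1, hx's⟩ := key hr hrm hrx hxT hx
    exact (hxx'.trans (near_three_of_primes hNG hr hs hrs hrm hsm hx' hy ⟨ν, hν1, hx's⟩ hyl))
  · obtain ⟨x', hx', hxx', ν, hν, hν1, hx's⟩ := key hr hrm hrx hxT hx
    obtain ⟨y', hy', hyy', μ, hμ, hμ1, hy's⟩ := key hs hsm hsy hyT hy
    exact ((hxx'.trans (near_two_of_primes hNG hr hs hrs hν hν1 hμ hμ1 hx' hy' hx's hy's)).trans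
      hyy'.symm)

/-- A linked degree and a twistable degree prime to the index. -/
theorem near_two_twist (hNG : N ≤ commutator G) {x y : ℕ} (hx : x ∈ relCharDegrees N)
    (hy : y ∈ relCharDegrees N) (hxm : x.Coprime (⁅N, N⁆.relIndex N)) (hxT : Twistable N x)
    (hyl : Linked N y) : Near N 2 x y := by
  obtain ⟨-, θ, hf, hfx, hdet⟩ := hxT
  obtain ⟨μ, hμ1, hys⟩ := hyl
  obtain ⟨z, hz, -, hzs, hfz⟩ := exists_twist_degree hNG θ hf hdet (hxm.coprime_dvd_left hfx)
    (pow_index μ)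
  exact (near_of_gcd hx hz (one_lt_gcd_of_dvd hx hf hfx hfz)).trans
    (near_of_gcd hz hy (near_share hz hy hμ1 hzs hys))

/-- Twistable degrees prime to the index are at distance at most three over the derived
subgroup. -/
theorem near_three_twist (hNG : N ≤ commutator G) {x y : ℕ} (hx : x ∈ relCharDegrees N)
    (hy : y ∈ relCharDegrees N) (hxm : x.Coprime (⁅N, N⁆.relIndex N))
    (hym : y.Coprime (⁅N, N⁆.relIndex N)) (hxT : Twistable N x) (hyT : Twistable N y)
    (hm : ⁅N, N⁆.relIndex N ≠ 1) : Near ⁅N, N⁆ 3 x y := by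
  obtain ⟨hx', θ, hf, hfx, hdet⟩ := hxT
  obtain ⟨hy', θ', hf', hfy, hdet'⟩ := hyT
  obtain ⟨r, hr, hrm⟩ := Nat.exists_prime_and_dvd hm
  obtain ⟨μ, -, hμ1⟩ := exists_prime_char hr hrm
  obtain ⟨a, ha, ha', has, hfa⟩ := exists_twist_degree hNG θ hf hdet (hxm.coprime_dvd_left hfx)
    (pow_index μ)
  obtain ⟨b, hb, hb', hbs, hfb⟩ := exists_twist_degree hNG θ' hf' hdet'
    (hym.coprime_dvd_left hfy) (pow_index μ)
  exact ((near_of_gcd hx' ha' (one_lt_gcd_of_dvd hx hf hfx hfa)).trans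
    (near_of_gcd ha' hb' (near_share ha hb hμ1 has hbs))).trans
    (near_of_gcd hy' hb' (one_lt_gcd_of_dvd hy hf' hfy hfb)).symm

theorem ne_bot_of_mem {d : ℕ} {M : Subgroup G} (hd : d ∈ relCharDegrees M) : M ≠ ⊥ := by
  rintro rfl
  obtain ⟨χ, ⟨x, hx, hne⟩, -⟩ := hd
  exact hne (by rw [Subgroup.mem_bot.mp hx])

theorem solvable_derived [Group.IsSolvable N] : Group.IsSolvable ↥⁅N, N⁆ :=
  Group.isSolvable_of_isSolvable_injective
    (f := Subgroup.inclusion (Subgroup.commutator_le_self N)) (Subgroup.inclusion_injective _)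

theorem derived_card_lt [Group.IsSolvable N] (h : N ≠ ⊥) :
    Nat.card ↥⁅N, N⁆ < Nat.card N := by
  have hlt : ⁅N, N⁆ < N := by
    refine lt_of_le_of_ne (Subgroup.commutator_le_self N) fun he => index_ne_one h ?_
    rw [Subgroup.relIndex_eq_one]
    exact he.ge
  exact Set.ncard_lt_ncard (SetLike.coe_ssubset_coe.mpr hlt) (Set.toFinite _)

/-- Each member of a pair at distance: the coprime and the full side. -/
theorem full_of_not_reach (hNG : N ≤ commutator G) {a b r : ℕ} (ha : a ∈ relCharDegrees N)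
    (hb : b ∈ relCharDegrees N) (hnr : ¬ Reach N a b) (hr : r.Prime)
    (hrm : r ∣ ⁅N, N⁆.relIndex N) (hra : ¬ r ∣ a) :
    a.Coprime (⁅N, N⁆.relIndex N) ∧ ∀ s : ℕ, s.Prime → s ∣ ⁅N, N⁆.relIndex N → s ∣ b := by
  classical
  haveI := Fintype.ofFinite G
  haveI := Fintype.ofFinite N
  exact dichotomy hNG ha hb hnr hr hrm hra

/-- Degrees prime to a given prime of the index are connected. -/
theorem reach_not_dvd (hNG : N ≤ commutator G) {a b r : ℕ} (ha : a ∈ relCharDegrees N)
    (hb : b ∈ relCharDegrees N) (hr : r.Prime) (hrm : r ∣ ⁅N, N⁆.relIndex N)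
    (hra : ¬ r ∣ a) (hrb : ¬ r ∣ b) : Reach N a b := by
  classical
  haveI := Fintype.ofFinite G
  haveI := Fintype.ofFinite N
  by_contra hnr
  exact hrb ((dichotomy hNG ha hb hnr hr hrm hra).2 r hr hrm)

/-- In a disconnected graph, connected degrees are at distance at most two. -/
theorem near_two_of_disconnected : ∀ (n : ℕ) (N : Subgroup G) [N.Normal] [Group.IsSolvable N],
    Nat.card N ≤ n → N ≤ commutator G →
    (∃ a ∈ relCharDegrees N, ∃ b ∈ relCharDegrees N, ¬ Reach N a b) →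
    ∀ x y : ℕ, Reach N x y → Near N 2 x y := by
  intro n
  induction n with
  | zero =>
    intro N _ _ hn
    have := Nat.card_pos (α := N)
    omega
  | succ n ih =>
    intro N _ _ hn hNG ⟨a, ha, b, hb, hab⟩ x y hxy
    obtain ⟨hx, hy, -⟩ := id hxy
    obtain ⟨r, hr, hrm⟩ := Nat.exists_prime_and_dvd (index_ne_one (ne_bot_of_mem ha))
    obtain ⟨u, hu, hxu⟩ : ∃ u ∈ relCharDegrees N, ¬ Reach N x u := by
      by_cases h : Reach N x a
      · exact ⟨b, hb, fun h' => hab (reach_trans (reach_symm h) h')⟩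
      · exact ⟨a, ha, h⟩
    have hyu : ¬ Reach N y u := fun h => hxu (reach_trans hxy h)
    by_cases hrx : r ∣ x <;> by_cases hry : r ∣ y
    · exact (near_of_dvd hx hy hr.one_lt hrx hry).mono one_le_two
    · have hru := (full_of_not_reach hNG hy hu hyu hr hrm hry).2 r hr hrm
      exact (hxu (near_of_dvd hx hu hr.one_lt hrx hru).reach).elim
    · have hru := (full_of_not_reach hNG hx hu hxu hr hrm hrx).2 r hr hrm
      exact (hyu (near_of_dvd hy hu hr.one_lt hry hru).reach).elim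
    obtain ⟨hxm, hufull⟩ := full_of_not_reach hNG hx hu hxu hr hrm hrx
    have hym := (full_of_not_reach hNG hy hu hyu hr hrm hry).1
    rcases linked_or_twistable hNG hx with hxl | hxT <;>
      rcases linked_or_twistable hNG hy with hyl | hyT
    · exact near_two_of_linked hNG hx hy hxm hym hxl hyl
    · exact (near_two_twist hNG hy hx hym hyT hxl).symm
    · exact near_two_twist hNG hx hy hxm hxT hyl
    haveI : Group.IsSolvable ↥⁅N, N⁆ := solvable_derived
    have hne := ne_bot_of_mem hxT.1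
    obtain ⟨c, hc, hcm⟩ := exists_noncoprime hne
    obtain ⟨q, hq, hqc, hqm⟩ := Nat.Prime.not_coprime_iff_dvd.mp hcm
    have hcu : Near N 1 c u := near_of_dvd (rel_mono (Subgroup.commutator_le_self N) hc) hu
      hq.one_lt hqc (hufull q hq hqm)
    have hxc : ¬ Reach ⁅N, N⁆ x c := fun h =>
      hxu (reach_trans (reach_of_le (Subgroup.commutator_le_self N) h) hcu.reach)
    have hyc : ¬ Reach ⁅N, N⁆ y c := fun h =>
      hyu (reach_trans (reach_of_le (Subgroup.commutator_le_self N) h) hcu.reach)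
    have hNG' : ⁅N, N⁆ ≤ commutator G := (Subgroup.commutator_le_self N).trans hNG
    have hxy' : Reach ⁅N, N⁆ x y := by
      obtain ⟨s, hs, hsm⟩ := Nat.exists_prime_and_dvd (index_ne_one (N := ⁅N, N⁆) hne)
      by_cases hsc : s ∣ c
      · refine reach_not_dvd hNG' hxT.1 hyT.1 hs hsm (fun h => hxc ?_) (fun h => hyc ?_)
        · exact (near_of_dvd hxT.1 hc hs.one_lt h hsc).reach
        · exact (near_of_dvd hyT.1 hc hs.one_lt h hsc).reach
      · exact (near_of_dvd hxT.1 hyT.1 hs.one_lt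
          ((full_of_not_reach hNG' hc hxT.1 (fun h => hxc (reach_symm h)) hs hsm hsc).2 s hs hsm)
          ((full_of_not_reach hNG' hc hyT.1 (fun h => hyc (reach_symm h)) hs hsm hsc).2 s hs hsm)).reach
    exact (ih ⁅N, N⁆ (by have := derived_card_lt (N := N) (ne_bot_of_mem hx); omega) hNG'
      ⟨x, hxT.1, c, hc, hxc⟩ x y hxy').of_le (Subgroup.commutator_le_self N)

/-- Connected degrees are at distance at most four. -/
theorem near_four : ∀ (n : ℕ) (N : Subgroup G) [N.Normal] [Group.IsSolvable N],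
    Nat.card N ≤ n → N ≤ commutator G →
    ∀ x y : ℕ, Reach N x y → Near N 4 x y := by
  intro n
  induction n with
  | zero =>
    intro N _ _ hn
    have := Nat.card_pos (α := N)
    omega
  | succ n ih =>
    intro N _ _ hn hNG x y hxy
    obtain ⟨hx, hy, -⟩ := id hxy
    set m := ⁅N, N⁆.relIndex N with hmdef
    have hm1 : m ≠ 1 := index_ne_one (ne_bot_of_mem hx)
    by_cases hcom : ∃ s : ℕ, s.Prime ∧ s ∣ m ∧ s ∣ x ∧ s ∣ y
    · obtain ⟨s, hs, -, hsx, hsy⟩ := hcom
      exact (near_of_dvd hx hy hs.one_lt hsx hsy).mono (by omega)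
    by_cases hmiss : ∃ r s : ℕ, r.Prime ∧ s.Prime ∧ r ≠ s ∧ r ∣ m ∧ s ∣ m ∧ ¬ r ∣ x ∧ ¬ s ∣ y
    · obtain ⟨r, s, hr, hs, hrs, hrm, hsm, hrx, hsy⟩ := hmiss
      exact near_four_of_missing hNG hr hs hrs hrm hsm hx hy hrx hsy
    -- now one side is prime to the index and the other is either too or contains all its primes
    have key : ∀ x y : ℕ, Reach N x y → x.Coprime m →
        (y.Coprime m ∨ ∀ s : ℕ, s.Prime → s ∣ m → s ∣ y) → Near N 4 x y := by
      intro x y hxy hxm hy'
      obtain ⟨hx, hy, ⟨p⟩⟩ := id hxy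
      rcases hy' with hym | hyfull
      · rcases linked_or_twistable hNG hx with hxl | hxT <;>
          rcases linked_or_twistable hNG hy with hyl | hyT
        · exact (near_two_of_linked hNG hx hy hxm hym hxl hyl).mono (by omega)
        · exact (near_two_twist hNG hy hx hym hyT hxl).symm.mono (by omega)
        · exact (near_two_twist hNG hx hy hxm hxT hyl).mono (by omega)
        · exact ((near_three_twist hNG hx hy hxm hym hxT hyT hm1).of_le
            (Subgroup.commutator_le_self N)).mono (by omega)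
      obtain ⟨r, hr, hrm⟩ := Nat.exists_prime_and_dvd hm1
      have hyS : ¬ y.Coprime m := Nat.not_coprime_of_dvd_of_dvd hr.one_lt (hyfull r hr hrm) hrm
      obtain ⟨d, -, hcm, hbm⟩ := p.exists_boundary_dart {v | (v : ℕ).Coprime m} hxm hyS
      obtain ⟨⟨⟨c, hc⟩, ⟨b, hb⟩⟩, hadj⟩ := d
      simp only [Set.mem_ofPred_eq] at hcm hbm
      have hcb : 1 < Nat.gcd c b := (show commonDivisorGraph.Adj c b from hadj).2
      obtain ⟨q, hq, hqb, hqm⟩ := Nat.Prime.not_coprime_iff_dvd.mp hbm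
      have hby : 1 < Nat.gcd b y := one_lt_gcd_of_dvd hb hq.one_lt hqb (hyfull q hq hqm)
      have hcy : Near N 2 c y := (near_of_gcd hc hb hcb).trans (near_of_gcd hb hy hby)
      rcases linked_or_twistable hNG hx with hxl | hxT <;>
        rcases linked_or_twistable hNG hc with hcl | hcT
      · exact (near_two_of_linked hNG hx hc hxm hcm hxl hcl).trans hcy
      · exact (near_two_twist hNG hc hx hcm hcT hxl).symm.trans hcy
      · exact (near_two_twist hNG hx hc hxm hxT hcl).trans hcy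
      rcases linked_or_twistable hNG hb with hbl | hbT
      · exact ((near_two_twist hNG hx hb hxm hxT hbl).trans (near_of_gcd hb hy hby)).mono
          (by omega)
      rcases linked_or_twistable hNG hy with hyl | hyT
      · exact (near_two_twist hNG hx hy hxm hxT hyl).mono (by omega)
      haveI : Group.IsSolvable ↥⁅N, N⁆ := solvable_derived
      have h' : Reach ⁅N, N⁆ x y := (((near_three_twist hNG hx hc hxm hcm hxT hcT hm1).trans
        (near_of_gcd hcT.1 hbT.1 hcb)).trans (near_of_gcd hbT.1 hyT.1 hby)).reach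
      exact (ih ⁅N, N⁆ (by have := derived_card_lt (N := N) (ne_bot_of_mem hx); omega)
        ((Subgroup.commutator_le_self N).trans hNG) x y h').of_le (Subgroup.commutator_le_self N)
    by_cases hxm : x.Coprime m
    · refine key x y hxy hxm (or_iff_not_imp_left.mpr fun hym s hs hsm => ?_)
      by_contra hsy
      obtain ⟨t, ht, hty, htm⟩ := Nat.Prime.not_coprime_iff_dvd.mp hym
      exact hmiss ⟨t, s, ht, hs, fun h => hsy (h ▸ hty), htm, hsm,
        fun h => ht.one_lt.ne' (Nat.dvd_one.mp (hxm ▸ Nat.dvd_gcd h htm)), hsy⟩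
    · obtain ⟨t, ht, htx, htm⟩ := Nat.Prime.not_coprime_iff_dvd.mp hxm
      have hty : ¬ t ∣ y := fun h => hcom ⟨t, ht, htm, htx, h⟩
      have hxfull : ∀ s : ℕ, s.Prime → s ∣ m → s ∣ x := fun s hs hsm => by
        by_contra hsx
        exact hmiss ⟨s, t, hs, ht, fun h => hsx (h ▸ htx), hsm, htm, hsx, hty⟩
      refine (key y x (reach_symm hxy) ?_ (Or.inr hxfull)).symm
      by_contra hym
      obtain ⟨s, hs, hsy, hsm⟩ := Nat.Prime.not_coprime_iff_dvd.mp hym
      exact hcom ⟨s, hs, hsm, hxfull s hs hsm, hsy⟩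

theorem adj_of_walk_one {V : Type*} {Γ : SimpleGraph V} {u v : V} (p : Γ.Walk u v)
    (hp : p.length ≤ 1) (huv : u ≠ v) : Γ.Adj u v := by
  cases p with
  | nil => exact absurd rfl huv
  | cons h q =>
    cases q with
    | nil => exact h
    | cons h' q' => simp only [SimpleGraph.Walk.length_cons] at hp; omega

theorem adj_of_walk_two {V : Type*} {Γ : SimpleGraph V} {u v : V} (p : Γ.Walk u v)
    (hp : p.length ≤ 2) (huv : u ≠ v) : Γ.Adj u v ∨ ∃ w, Γ.Adj u w ∧ Γ.Adj w v := by
  cases p with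
  | nil => exact absurd rfl huv
  | cons h q =>
    cases q with
    | nil => exact Or.inl h
    | cons h' q' =>
      cases q' with
      | nil => exact Or.inr ⟨_, h, h'⟩
      | cons h'' q'' => simp only [SimpleGraph.Walk.length_cons] at hp; omega

end H4.RelGraph
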